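import Mathlib.FieldTheory.IsSepClosed
import Mathlib.FieldTheory.KrullTopology
import Mathlib.FieldTheory.Galois.Profinite
import Mathlib.FieldTheory.Galois.Infinite
import Mathlib.Topology.LocallyConstant.Basic
import Mathlib.RingTheory.Trace.Basic
import Mathlib.RepresentationTheory.Homological.GroupCohomology.Hilbert90

/-!
# Locally constant 1-cocycles of a Galois group descend to a finite level
-/

set_option autoImplicit false
universe u v

namespace Groth.Agent.GalCoh

open IntermediateField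

variable {K : Type u} {L : Type v} [Field K] [Field L] [Algebra K L] [IsGalois K L]

/-- A locally constant crossed homomorphism for a law `op` on `L` with neutral element `e` factors
through a finite Galois subextension, with values in it. -/
theorem exists_finite_level (a : (L ≃ₐ[K] L) → L) (hlc : IsLocallyConstant a) (op : L → L → L)
    (ha : ∀ σ τ : L ≃ₐ[K] L, a (σ * τ) = op (a σ) (σ (a τ)))
    (h_right : ∀ x, op x (a 1) = x)
    (h_fix : ∀ σ : L ≃ₐ[K] L, σ (a 1) = a 1) :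
    ∃ (E : IntermediateField K L) (_ : FiniteDimensional K E) (_ : IsGalois K E) (b : (E ≃ₐ[K] E) → E),
      ∀ σ : L ≃ₐ[K] L, a σ = b (AlgEquiv.restrictNormalHom E σ) := by
  have h1 : a ⁻¹' {a 1} ∈ nhds (1 : L ≃ₐ[K] L) := (hlc {a 1}).mem_nhds rfl
  rw [krullTopology_mem_nhds_one_iff] at h1
  obtain ⟨E₀, hE₀, hsub⟩ := h1
  have hfin : (Set.range a).Finite := hlc.range_finite
  have : FiniteDimensional K (adjoin K (Set.range a)) := by
    have := hfin.to_subtype
    exact finiteDimensional_adjoin (fun x _ => Algebra.IsIntegral.isIntegral x)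
  let E := IntermediateField.normalClosure K ↥(E₀ ⊔ adjoin K (Set.range a)) L
  have : IsGalois K E := {}
  have hle : E₀ ⊔ adjoin K (Set.range a) ≤ E := le_normalClosure _
  have hval : ∀ σ, a σ ∈ E := fun σ =>
    hle (le_sup_right (a := E₀) (subset_adjoin K _ ⟨σ, rfl⟩))
  have hinv : ∀ σ σ' : L ≃ₐ[K] L, AlgEquiv.restrictNormalHom E σ = AlgEquiv.restrictNormalHom E σ' →
      a σ = a σ' := by
    intro σ σ' h
    have hfix : ∀ x ∈ E, σ x = σ' x := fun x hx => by
      have := congrArg (fun f => algebraMap E L (f ⟨x, hx⟩)) h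
      simpa [AlgEquiv.restrictNormalHom, AlgEquiv.restrictNormal_commutes] using this
    have hτ : σ⁻¹ * σ' ∈ E₀.fixingSubgroup := by
      rw [IntermediateField.mem_fixingSubgroup_iff]
      intro x hx
      rw [AlgEquiv.mul_apply, ← hfix x (hle (le_sup_left (b := adjoin K (Set.range a)) hx))]
      exact σ.symm_apply_apply x
    have h2 := ha σ (σ⁻¹ * σ')
    rw [mul_inv_cancel_left, Set.mem_singleton_iff.mp (hsub hτ), h_fix, h_right] at h2
    exact h2.symm
  refine ⟨E, inferInstance, inferInstance,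
    fun g => ⟨a (Function.surjInv (AlgEquiv.restrictNormalHom_surjective (K₁ := E) L) g), hval _⟩, fun σ => ?_⟩
  exact hinv _ _ (Function.surjInv_eq (AlgEquiv.restrictNormalHom_surjective (K₁ := E) L) _).symm

theorem exists_eq_sub (a : (L ≃ₐ[K] L) → L) (hlc : IsLocallyConstant a)
    (ha : ∀ σ τ : L ≃ₐ[K] L, a (σ * τ) = a σ + σ (a τ)) :
    ∃ y : L, ∀ σ : L ≃ₐ[K] L, a σ = σ y - y := by
  have h0 : a 1 = 0 := by
    have := ha 1 1
    simpa using this
  obtain ⟨E, _, _, b, hb⟩ := exists_finite_level a hlc (· + ·) ha (by simp [h0]) (by simp [h0])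
  have hsurj := AlgEquiv.restrictNormalHom_surjective (F := K) (K₁ := E) L
  have hres : ∀ (σ : L ≃ₐ[K] L) (x : E), ((AlgEquiv.restrictNormalHom E σ x : E) : L) = σ (x : L) :=
    fun σ x => AlgEquiv.restrictNormal_commutes σ E x
  have hbc : ∀ g h, b (g * h) = b g + g (b h) := by
    intro g h
    obtain ⟨σ, rfl⟩ := hsurj g
    obtain ⟨τ, rfl⟩ := hsurj h
    apply Subtype.ext
    rw [← map_mul, ← hb, ha, hb σ, hb τ, IntermediateField.coe_add, hres]
  obtain ⟨θ, hθ⟩ := Algebra.trace_surjective K E 1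
  have hsum : ∑ g : E ≃ₐ[K] E, g θ = 1 := by
    rw [← trace_eq_sum_automorphisms, hθ, map_one]
  let y : E := - ∑ g : E ≃ₐ[K] E, b g * g θ
  have hy : ∀ g : E ≃ₐ[K] E, g y - y = b g := by
    intro g
    have hre : ∑ h : E ≃ₐ[K] E, b (g * h) * (g * h) θ = ∑ h : E ≃ₐ[K] E, b h * h θ :=
      Fintype.sum_equiv (Equiv.mulLeft g) _ _ (fun i => rfl)
    have h3 : g y = - ∑ h : E ≃ₐ[K] E, b (g * h) * (g * h) θ + b g * ∑ h : E ≃ₐ[K] E, (g * h) θ := by
      simp only [y, map_neg, map_sum, map_mul, Finset.mul_sum, ← Finset.sum_neg_distrib, ← Finset.sum_add_distrib]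
      refine Finset.sum_congr rfl fun h _ => ?_
      rw [hbc, AlgEquiv.mul_apply]; ring
    have h4 : ∑ h : E ≃ₐ[K] E, (g * h) θ = 1 := by
      rw [← hsum]; exact Fintype.sum_equiv (Equiv.mulLeft g) _ _ (fun i => rfl)
    rw [h3, hre, h4]; simp [y]
  exact ⟨(y : L), fun σ => by rw [hb σ, ← hy, AddSubgroupClass.coe_sub, hres]⟩

theorem exists_eq_inv_mul_smul (a : (L ≃ₐ[K] L) → Lˣ) (hlc : IsLocallyConstant a)
    (ha : ∀ σ τ : L ≃ₐ[K] L, a (σ * τ) = a σ * σ • a τ) :
    ∃ c : Lˣ, ∀ σ : L ≃ₐ[K] L, a σ = c⁻¹ * σ • c := by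
  have h0 : a 1 = 1 := by
    have := ha 1 1
    simpa using this
  obtain ⟨E, _, _, b, hb⟩ := exists_finite_level (fun σ => (a σ : L)) (hlc.comp _) (· * ·)
    (fun σ τ => by rw [ha]; rfl) (by simp [h0]) (by simp [h0])
  have hsurj := AlgEquiv.restrictNormalHom_surjective (F := K) (K₁ := E) L
  have hres : ∀ (σ : L ≃ₐ[K] L) (x : E), ((AlgEquiv.restrictNormalHom E σ x : E) : L) = σ (x : L) :=
    fun σ x => AlgEquiv.restrictNormal_commutes σ E x
  have hne : ∀ g, b g ≠ 0 := fun g h => by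
    obtain ⟨σ, rfl⟩ := hsurj g
    exact (a σ).ne_zero ((hb σ).trans (by rw [h]; rfl))
  let f : (E ≃ₐ[K] E) → Eˣ := fun g => Units.mk0 (b g) (hne g)
  have hf : groupCohomology.IsMulCocycle₁ f := by
    intro g h
    obtain ⟨σ, rfl⟩ := hsurj g
    obtain ⟨τ, rfl⟩ := hsurj h
    apply Units.ext
    apply Subtype.ext
    show ((b _ : E) : L) = ((AlgEquiv.restrictNormalHom E σ (b _) * b _ : E) : L)
    rw [← map_mul, ← hb, ha, IntermediateField.coe_mul, hres, ← hb σ, ← hb τ, mul_comm]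
    rfl
  obtain ⟨x, hx⟩ := groupCohomology.isMulCoboundary₁_of_isMulCocycle₁_of_aut_to_units f hf
  refine ⟨Units.map (algebraMap E L).toMonoidHom x, fun σ => Units.ext ?_⟩
  have h5 := congrArg (fun u : Eˣ => ((u : E) : L)) (hx (AlgEquiv.restrictNormalHom E σ))
  rw [hb σ]
  simp only [f, Units.val_mk0] at h5
  rw [← h5]
  simp [div_eq_mul_inv, mul_comm, hres]

theorem mem_range_of_fixed (x : L) (h : ∀ σ : L ≃ₐ[K] L, σ x = x) : x ∈ Set.range (algebraMap K L) :=
  (InfiniteGalois.mem_range_algebraMap_iff_fixed x).mpr h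

end Groth.Agent.GalCoh
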