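import Groth.Prelude.Def_GalDesc
import Groth.Agent.CSA.GaloisDescent
import Mathlib.RingTheory.Flat.Basic

/-!
# Galois descent for vector spaces with structure
-/

set_option autoImplicit false
set_option linter.style.haveILetI false
universe u v w x

open scoped TensorProduct
open TensorProduct

namespace Groth.Agent.GalCoh.Forms

variable (k : Type u) [Field k] (K : Type v) [Field K] [Algebra k K]

theorem smul_tmul_left {V : Type w} [AddCommGroup V] [Module k V] (σ : K ≃ₐ[k] K) (c : K) (v : V) :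
    σ • (c ⊗ₜ[k] v) = σ c ⊗ₜ[k] v := by
  rw [TensorProduct.smul_tmul', AlgEquiv.smul_def]

theorem smul_eq_rTensor {V : Type w} [AddCommGroup V] [Module k V] (σ : K ≃ₐ[k] K) (z : K ⊗[k] V) :
    σ • z = LinearMap.rTensor V σ.toLinearMap z := by
  induction z using TensorProduct.induction_on with
  | zero => simp
  | tmul a b => rw [smul_tmul_left]; simp
  | add a b ha hb => rw [smul_add, map_add, ha, hb]

theorem smul_baseChange {V : Type w} [AddCommGroup V] [Module k V] {W : Type x} [AddCommGroup W] [Module k W]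
    (f : V →ₗ[k] W) (σ : K ≃ₐ[k] K) (z : K ⊗[k] V) : f.baseChange K (σ • z) = σ • f.baseChange K z := by
  induction z using TensorProduct.induction_on with
  | zero => simp
  | tmul a b => rw [smul_tmul_left, LinearMap.baseChange_tmul, LinearMap.baseChange_tmul, smul_tmul_left]
  | add a b ha hb => rw [smul_add, map_add, map_add, smul_add, ha, hb]

variable [FiniteDimensional k K] [IsGalois k K]

/-- An equivariant isomorphism of base changes is defined over the base field. -/
theorem exists_linearEquiv {W : Type w} [AddCommGroup W] [Module k W] {W' : Type x} [AddCommGroup W'] [Module k W']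
    (h : K ⊗[k] W ≃ₗ[K] K ⊗[k] W') (heq : ∀ (σ : K ≃ₐ[k] K) z, h (σ • z) = σ • h z) :
    ∃ e : W ≃ₗ[k] W', ∀ w, h (1 ⊗ₜ w) = 1 ⊗ₜ e w := by
  have fix : ∀ {A : Type w} {B : Type x} [AddCommGroup A] [Module k A] [AddCommGroup B] [Module k B]
      (f : K ⊗[k] A ≃ₗ[K] K ⊗[k] B), (∀ (σ : K ≃ₐ[k] K) z, f (σ • z) = σ • f z) →
      ∀ a, ∃ b : B, f (1 ⊗ₜ a) = 1 ⊗ₜ b := fun f hf a =>
    CSA.exists_eq_one_tmul_of_fixed _ fun σ => by rw [← smul_eq_rTensor, ← hf, smul_tmul_left, map_one]
  choose p hp using fix h heq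
  have hinv : ∀ b, ∃ a : W, h.symm (1 ⊗ₜ b) = 1 ⊗ₜ a := fun b =>
    CSA.exists_eq_one_tmul_of_fixed _ fun σ => by
      rw [← smul_eq_rTensor]; apply h.injective
      rw [heq, h.apply_symm_apply, smul_tmul_left, map_one]
  choose q hq using hinv
  have inj : ∀ {A : Type w} [AddCommGroup A] [Module k A], Function.Injective (fun a : A => (1 : K) ⊗ₜ[k] a) :=
    fun {A} _ _ => Module.Flat.tensorProduct_mk_injective (R := k) (S := K) (M := A)
  have inj' : Function.Injective (fun a : W' => (1 : K) ⊗ₜ[k] a) :=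
    Module.Flat.tensorProduct_mk_injective (R := k) (S := K) (M := W')
  let f : W →ₗ[k] W' :=
    { toFun := p
      map_add' := fun a b => inj' (by
        show (1 : K) ⊗ₜ[k] p (a + b) = 1 ⊗ₜ (p a + p b)
        rw [← hp, tmul_add, map_add, hp, hp, tmul_add])
      map_smul' := fun r a => inj' (by
        show (1 : K) ⊗ₜ[k] p (r • a) = 1 ⊗ₜ (r • p a)
        rw [← hp, tmul_smul, ← algebraMap_smul K r, map_smul, hp, algebraMap_smul, tmul_smul]) }
  refine ⟨LinearEquiv.ofBijective f ⟨fun a b hab => inj ?_, fun b => ⟨q b, inj' ?_⟩⟩, fun w => hp w⟩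
  · refine h.injective ?_
    show h ((1 : K) ⊗ₜ[k] a) = h (1 ⊗ₜ b)
    rw [hp, hp]
    exact congrArg _ hab
  · show (1 : K) ⊗ₜ[k] p (q b) = 1 ⊗ₜ b
    rw [← hp, ← hq, h.apply_symm_apply]

/-- A type carrying the twisted action. -/
def Twist {M : Type w} (_a : (K ≃ₐ[k] K) → M → M) := M

variable {V : Type w} [AddCommGroup V] [Module k V]

/-- Descent along a twisted action: the fixed vectors give a form. -/
theorem exists_descent (a : GpH1.OneCocycle (K ≃ₐ[k] K) (K ⊗[k] V ≃ₗ[K] K ⊗[k] V))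
    {W : Type x} [AddCommGroup W] [Module k W] (ι : W →ₗ[k] K ⊗[k] V) (hι : Function.Injective ι)
    (hW : ∀ z, z ∈ LinearMap.range ι ↔ ∀ σ : K ≃ₐ[k] K, a σ (σ • z) = z) :
    ∃ g : K ⊗[k] V ≃ₗ[K] K ⊗[k] W, (∀ (c : K) (w : W), g.symm (c ⊗ₜ[k] w) = c • ι w) ∧
      GalDesc.cocycle k g = a := by
  letI : AddCommGroup (Twist k K fun σ (z : K ⊗[k] V) => a σ (σ • z)) := inferInstanceAs (AddCommGroup (K ⊗[k] V))
  letI : Module K (Twist k K fun σ (z : K ⊗[k] V) => a σ (σ • z)) := inferInstanceAs (Module K (K ⊗[k] V))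
  letI : Module k (Twist k K fun σ (z : K ⊗[k] V) => a σ (σ • z)) := inferInstanceAs (Module k (K ⊗[k] V))
  haveI : IsScalarTower k K (Twist k K fun σ (z : K ⊗[k] V) => a σ (σ • z)) :=
    inferInstanceAs (IsScalarTower k K (K ⊗[k] V))
  letI : DistribMulAction (K ≃ₐ[k] K) (Twist k K fun σ (z : K ⊗[k] V) => a σ (σ • z)) :=
    { smul := fun σ (z : K ⊗[k] V) => a σ (σ • z)
      one_smul := fun (z : K ⊗[k] V) => by
        show a 1 ((1 : K ≃ₐ[k] K) • z) = z
        have h1 : a 1 = 1 := by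
          have := a.2 1 1
          rw [mul_one, one_smul] at this
          exact left_eq_mul.mp this
        rw [one_smul, h1]; rfl
      mul_smul := fun σ τ (z : K ⊗[k] V) => by
        show a (σ * τ) ((σ * τ) • z) = a σ (σ • a τ (τ • z))
        rw [a.2 σ τ, LinearEquiv.mul_apply, GalDesc.conj_smul_apply, mul_smul, inv_smul_smul]
      smul_zero := fun σ => by
        show a σ (σ • (0 : K ⊗[k] V)) = 0
        rw [smul_zero, map_zero]
      smul_add := fun σ (y z : K ⊗[k] V) => by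
        show a σ (σ • (y + z)) = a σ (σ • y) + a σ (σ • z)
        rw [smul_add, map_add] }
  have hsemi : ∀ (σ : K ≃ₐ[k] K) (c : K) (z : Twist k K fun σ (z : K ⊗[k] V) => a σ (σ • z)),
      σ • (c • z) = σ c • σ • z := fun σ c z => by
    change K ⊗[k] V at z
    exact (congrArg (a σ) (smul_distrib_smul σ c z)).trans (map_smul (a σ) (σ • c) (σ • z))
  let Φ : K ⊗[k] W →ₗ[K] K ⊗[k] V := LinearMap.liftBaseChange K ι
  have hΦ : ∀ (c : K) (w : W), Φ (c ⊗ₜ w) = c • ι w := fun c w => LinearMap.liftBaseChange_tmul ..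
  let b := Module.Free.chooseBasis k W
  let B := Algebra.TensorProduct.basis K b
  have hli : LinearIndependent K fun i => ι (b i) :=
    CSA.linearIndependent_of_fixed (V := Twist k K fun σ (z : K ⊗[k] V) => a σ (σ • z)) hsemi _
      (fun i σ => (hW _).mp ⟨b i, rfl⟩ σ) (b.linearIndependent.map' ι (LinearMap.ker_eq_bot.mpr hι))
  have hinj : Function.Injective Φ := by
    refine LinearMap.ker_eq_bot.mp (LinearMap.ker_eq_bot'.mpr fun z hz => ?_)
    have : Φ z = Finsupp.linearCombination K (fun i => ι (b i)) (B.repr z) := by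
      conv_lhs => rw [← B.linearCombination_repr z, Finsupp.apply_linearCombination]
      exact congrFun (congrArg _ (congrArg _ (funext fun i => by simp [B, hΦ]))) _
    rw [hz] at this
    exact B.repr.injective ((linearIndependent_iff.mp hli _ this.symm).trans (map_zero _).symm)
  have hsurj : Function.Surjective Φ := by
    rw [← LinearMap.range_eq_top, eq_top_iff]
    intro z _
    have hz : (z : Twist k K fun σ (z : K ⊗[k] V) => a σ (σ • z)) ∈
        Submodule.span K (MulAction.fixedPoints (K ≃ₐ[k] K) (Twist k K fun σ (z : K ⊗[k] V) => a σ (σ • z))) := by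
      rw [CSA.span_fixed_eq_top hsemi]; trivial
    refine Submodule.span_induction (p := fun y _ => (y : K ⊗[k] V) ∈ LinearMap.range Φ) ?_ (zero_mem _)
      (fun _ _ _ _ => add_mem) (fun c _ _ => Submodule.smul_mem _ c) hz
    intro y hy
    obtain ⟨w, hw⟩ := (hW y).mpr fun σ => hy σ
    exact ⟨1 ⊗ₜ w, (hΦ 1 w).trans ((one_smul K _).trans hw)⟩
  let g := (LinearEquiv.ofBijective Φ ⟨hinj, hsurj⟩).symm
  refine ⟨g, fun c w => ?_, GpH1.OneCocycle.ext fun σ => LinearEquiv.ext fun z => ?_⟩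
  · show (LinearEquiv.ofBijective Φ ⟨hinj, hsurj⟩) (c ⊗ₜ w) = _
    exact hΦ c w
  · show g.symm (σ • g (σ⁻¹ • z)) = a σ z
    obtain ⟨u, hu⟩ : ∃ u, u = g (σ⁻¹ • z) := ⟨_, rfl⟩
    have hz : z = σ • g.symm u := by rw [hu, g.symm_apply_apply, smul_inv_smul]
    rw [← hu, hz]
    clear hz hu
    induction u using TensorProduct.induction_on with
    | zero => simp
    | tmul c w =>
      show Φ (σ • (c ⊗ₜ w)) = a σ (σ • Φ (c ⊗ₜ w))
      rw [smul_tmul_left, hΦ, hΦ, smul_distrib_smul σ c (ι w), map_smul, (hW _).mp ⟨w, rfl⟩ σ]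
      rfl
    | add u u' hu hu' => simp only [smul_add, map_add, hu, hu']

omit [FiniteDimensional k K] [IsGalois k K]

variable {W : Type x} [AddCommGroup W] [Module k W] {W' : Type*} [AddCommGroup W'] [Module k W']

/-- Cohomologous cocycles give an equivariant isomorphism. -/
theorem equivariant_of_cohomologous (g : K ⊗[k] V ≃ₗ[K] K ⊗[k] W) (g' : K ⊗[k] V ≃ₗ[K] K ⊗[k] W')
    (c : K ⊗[k] V ≃ₗ[K] K ⊗[k] V)
    (h : ∀ σ, GalDesc.cocycle k g σ = c⁻¹ * GalDesc.cocycle k g' σ * σ • c) (σ : K ≃ₐ[k] K) (y : K ⊗[k] W) :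
    ((g.symm.trans c).trans g') (σ • y) = σ • ((g.symm.trans c).trans g') y := by
  have e := congrArg (fun f : K ⊗[k] V ≃ₗ[K] K ⊗[k] V => g' (c (f (σ • g.symm y)))) (h σ)
  simp only [LinearEquiv.mul_apply, GalDesc.cocycle_apply, GalDesc.conj_smul_apply, inv_smul_smul,
    LinearEquiv.apply_symm_apply] at e
  rw [show c (c⁻¹ (g'.symm (σ • g' (c (g.symm y))))) = g'.symm (σ • g' (c (g.symm y))) from c.apply_symm_apply _,
    LinearEquiv.apply_symm_apply] at e
  exact e

/-- An isomorphism over the base field gives cohomologous cocycles. -/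
theorem cocycle_eq_of_equiv (g : K ⊗[k] V ≃ₗ[K] K ⊗[k] W) (g' : K ⊗[k] V ≃ₗ[K] K ⊗[k] W')
    (e : W ≃ₗ[k] W') (σ : K ≃ₐ[k] K) :
    GalDesc.cocycle k g σ = ((g.trans (e.baseChange k K W W')).trans g'.symm)⁻¹ * GalDesc.cocycle k g' σ *
      σ • ((g.trans (e.baseChange k K W W')).trans g'.symm) := by
  refine LinearEquiv.ext fun z => ?_
  show g.symm (σ • g (σ⁻¹ • z)) = g.symm ((e.baseChange k K W W').symm (g'
    (g'.symm (σ • g' (σ⁻¹ • σ • g'.symm (e.baseChange k K W W' (g (σ⁻¹ • z))))))))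
  rw [inv_smul_smul, g'.apply_symm_apply, g'.apply_symm_apply]
  refine congrArg _ ?_
  rw [LinearEquiv.eq_symm_apply]
  exact smul_baseChange k K e.toLinearMap σ _

end Groth.Agent.GalCoh.Forms
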