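import Mathlib.LinearAlgebra.TensorProduct.Basis
import Mathlib.RepresentationTheory.Basic
import Mathlib.LinearAlgebra.Basis.Prod
import Mathlib.LinearAlgebra.Basis.VectorSpace
import Mathlib.LinearAlgebra.Dimension.Free
import Mathlib.Algebra.Field.ZMod
import Mathlib.Algebra.CharP.Two

/-!
# The sequence `0 → V → S²V → Λ²V → 0` over the field with two elements
-/

set_option autoImplicit false

universe u v w

open scoped TensorProduct

namespace Groth.Agent.GalCoh.SqWedge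

variable {V : Type v} [AddCommGroup V] [Module (ZMod 2) V]

/-- The span of the squares. -/
noncomputable abbrev Na (V : Type v) [AddCommGroup V] [Module (ZMod 2) V] : Submodule (ZMod 2) (V ⊗[ZMod 2] V) :=
  Submodule.span (ZMod 2) (Set.range fun v : V => v ⊗ₜ[ZMod 2] v)

/-- The span of the symmetrised tensors. -/
noncomputable abbrev Ns (V : Type v) [AddCommGroup V] [Module (ZMod 2) V] : Submodule (ZMod 2) (V ⊗[ZMod 2] V) :=
  Submodule.span (ZMod 2) (Set.range fun p : V × V => p.1 ⊗ₜ[ZMod 2] p.2 + p.2 ⊗ₜ[ZMod 2] p.1)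

theorem sym_mem (x y : V) : x ⊗ₜ[ZMod 2] y + y ⊗ₜ[ZMod 2] x ∈ Ns V :=
  Submodule.subset_span ⟨(x, y), rfl⟩

theorem Ns_le_Na : Ns V ≤ Na V := by
  rw [Submodule.span_le]
  rintro _ ⟨⟨x, y⟩, rfl⟩
  have h : x ⊗ₜ[ZMod 2] y + y ⊗ₜ[ZMod 2] x = (x + y) ⊗ₜ[ZMod 2] (x + y) - x ⊗ₜ[ZMod 2] x - y ⊗ₜ[ZMod 2] y := by
    rw [TensorProduct.add_tmul, TensorProduct.tmul_add, TensorProduct.tmul_add]; abel
  show x ⊗ₜ[ZMod 2] y + y ⊗ₜ[ZMod 2] x ∈ Na V
  rw [h]
  exact sub_mem (sub_mem (Submodule.subset_span ⟨x + y, rfl⟩) (Submodule.subset_span ⟨x, rfl⟩))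
    (Submodule.subset_span ⟨y, rfl⟩)

variable {G : Type u} [Group G] (ρ : Representation (ZMod 2) G V)

theorem Ns_stable (g : G) : ∀ w ∈ Ns V, ρ.tprod ρ g w ∈ Ns V := by
  show Ns V ≤ (Ns V).comap (ρ.tprod ρ g)
  rw [Submodule.span_le]
  rintro _ ⟨⟨x, y⟩, rfl⟩
  show TensorProduct.map (ρ g) (ρ g) (x ⊗ₜ y + y ⊗ₜ x) ∈ Ns V
  rw [map_add, TensorProduct.map_tmul, TensorProduct.map_tmul]
  exact sym_mem _ _

theorem Na_stable (g : G) : ∀ w ∈ Na V, ρ.tprod ρ g w ∈ Na V := by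
  show Na V ≤ (Na V).comap (ρ.tprod ρ g)
  rw [Submodule.span_le]
  rintro _ ⟨x, rfl⟩
  exact Submodule.subset_span ⟨ρ g x, (TensorProduct.map_tmul _ _ _ _).symm⟩

variable {ι : Type w} (b : Module.Basis ι (ZMod 2) V)

/-- The basis of the tensor square. -/
noncomputable abbrev bb : Module.Basis (ι × ι) (ZMod 2) (V ⊗[ZMod 2] V) := b.tensorProduct b

/-- Diagonal coefficient. -/
noncomputable def φ (i : ι) : V ⊗[ZMod 2] V →ₗ[ZMod 2] ZMod 2 := (bb b).coord (i, i)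

/-- Coefficient of the wedge. -/
noncomputable def ψ (i j : ι) : V ⊗[ZMod 2] V →ₗ[ZMod 2] ZMod 2 := (bb b).coord (i, j) + (bb b).coord (j, i)

theorem φ_tmul (i : ι) (x y : V) : φ b i (x ⊗ₜ y) = b.repr x i * b.repr y i := by
  rw [φ, Module.Basis.coord_apply, Module.Basis.tensorProduct_repr_tmul_apply, smul_eq_mul, mul_comm]

theorem ψ_tmul (i j : ι) (x y : V) :
    ψ b i j (x ⊗ₜ y) = b.repr x i * b.repr y j + b.repr x j * b.repr y i := by
  rw [ψ, LinearMap.add_apply, Module.Basis.coord_apply, Module.Basis.coord_apply,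
    Module.Basis.tensorProduct_repr_tmul_apply, Module.Basis.tensorProduct_repr_tmul_apply, smul_eq_mul, smul_eq_mul,
    mul_comm, mul_comm (b.repr y i)]

theorem φ_Ns (i : ι) : Ns V ≤ LinearMap.ker (φ b i) := by
  rw [Submodule.span_le]
  rintro _ ⟨⟨x, y⟩, rfl⟩
  show φ b i (x ⊗ₜ y + y ⊗ₜ x) = 0
  rw [map_add, φ_tmul, φ_tmul, mul_comm (b.repr y i), CharTwo.add_self_eq_zero]

theorem ψ_Na (i j : ι) : Na V ≤ LinearMap.ker (ψ b i j) := by
  rw [Submodule.span_le]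
  rintro _ ⟨x, rfl⟩
  show ψ b i j (x ⊗ₜ x) = 0
  rw [ψ_tmul, mul_comm (b.repr x j), CharTwo.add_self_eq_zero]

/-- The span of diagonal basis tensors. -/
noncomputable def D : Submodule (ZMod 2) (V ⊗[ZMod 2] V) :=
  Submodule.span (ZMod 2) (bb b '' {p | p.1 = p.2})

theorem D_le_Na : D b ≤ Na V := by
  rw [D, Submodule.span_le]
  rintro _ ⟨⟨i, j⟩, hij, rfl⟩
  obtain rfl : i = j := hij
  exact Submodule.subset_span ⟨b i, (Module.Basis.tensorProduct_apply b b i i).symm⟩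

theorem sq_mem (v : V) : v ⊗ₜ[ZMod 2] v ∈ Ns V ⊔ D b := by
  have hv : v ∈ Submodule.span (ZMod 2) (Set.range b) := by rw [b.span_eq]; trivial
  induction hv using Submodule.span_induction with
  | mem x hx =>
    obtain ⟨i, rfl⟩ := hx
    exact Submodule.mem_sup_right (Submodule.subset_span ⟨(i, i), rfl, Module.Basis.tensorProduct_apply b b i i⟩)
  | zero => rw [TensorProduct.tmul_zero]; exact zero_mem _
  | add x y _ _ hx hy =>
    have h : (x + y) ⊗ₜ[ZMod 2] (x + y) = (x ⊗ₜ x + y ⊗ₜ y) + (x ⊗ₜ y + y ⊗ₜ x) := by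
      rw [TensorProduct.add_tmul, TensorProduct.tmul_add, TensorProduct.tmul_add]; abel
    rw [h]
    exact add_mem (add_mem hx hy) (Submodule.mem_sup_left (sym_mem x y))
  | smul a x _ hx => rw [TensorProduct.tmul_smul, ← TensorProduct.smul_tmul']; exact Submodule.smul_mem _ _ (Submodule.smul_mem _ _ hx)

theorem Na_eq : Na V = Ns V ⊔ D b :=
  le_antisymm (Submodule.span_le.mpr (by rintro _ ⟨v, rfl⟩; exact sq_mem b v)) (sup_le Ns_le_Na (D_le_Na b))

theorem eq_zero_of_mem_D {d : V ⊗[ZMod 2] V} (hd : d ∈ D b) (h : ∀ i, φ b i d = 0) : d = 0 := by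
  rw [D, (bb b).mem_span_image] at hd
  refine (bb b).repr.injective (Finsupp.ext fun p => ?_)
  rw [map_zero, Finsupp.zero_apply]
  by_contra hp
  obtain ⟨i, j⟩ := p
  obtain rfl : i = j := hd (Finsupp.mem_support_iff.mpr hp)
  exact hp (h i)

theorem mem_Ns_iff (t : V ⊗[ZMod 2] V) : t ∈ Ns V ↔ t ∈ Na V ∧ ∀ i, φ b i t = 0 := by
  refine ⟨fun h => ⟨Ns_le_Na h, fun i => φ_Ns b i h⟩, fun ⟨ht, h⟩ => ?_⟩
  rw [Na_eq b, Submodule.mem_sup] at ht
  obtain ⟨s, hs, d, hd, rfl⟩ := ht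
  have : d = 0 := eq_zero_of_mem_D b hd fun i => by
    have := h i
    rwa [map_add, show φ b i s = 0 from φ_Ns b i hs, zero_add] at this
  rw [this, add_zero]
  exact hs

theorem mem_Na_iff [LinearOrder ι] (t : V ⊗[ZMod 2] V) : t ∈ Na V ↔ ∀ i j, i < j → ψ b i j t = 0 := by
  refine ⟨fun h i j _ => ψ_Na b i j h, fun h => ?_⟩
  let U := Submodule.span (ZMod 2) (bb b '' {p | p.1 < p.2})
  have htop : (⊤ : Submodule (ZMod 2) (V ⊗[ZMod 2] V)) ≤ Na V ⊔ U := by
    rw [← (bb b).span_eq, Submodule.span_le]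
    rintro _ ⟨⟨i, j⟩, rfl⟩
    rcases lt_trichotomy i j with hij | hij | hij
    · exact Submodule.mem_sup_right (Submodule.subset_span ⟨(i, j), hij, rfl⟩)
    · subst hij
      exact Submodule.mem_sup_left (D_le_Na b (Submodule.subset_span ⟨(i, i), rfl, rfl⟩))
    · have e : bb b (i, j) = (b i ⊗ₜ b j + b j ⊗ₜ b i) - bb b (j, i) := by
        rw [Module.Basis.tensorProduct_apply, Module.Basis.tensorProduct_apply, add_sub_cancel_right]
      rw [e]
      exact sub_mem (Submodule.mem_sup_left (Ns_le_Na (sym_mem _ _)))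
        (Submodule.mem_sup_right (Submodule.subset_span ⟨(j, i), hij, rfl⟩))
  obtain ⟨a, ha, u, hu, rfl⟩ := Submodule.mem_sup.mp (htop (x := t) trivial)
  have hu' := (bb b).mem_span_image.mp hu
  have : u = 0 := by
    refine (bb b).repr.injective (Finsupp.ext fun p => ?_)
    rw [map_zero, Finsupp.zero_apply]
    by_contra hp
    obtain ⟨i, j⟩ := p
    have hij : i < j := hu' (Finsupp.mem_support_iff.mpr hp)
    have hji : (bb b).repr u (j, i) = 0 := by
      by_contra hq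
      exact lt_asymm hij (hu' (Finsupp.mem_support_iff.mpr hq))
    have := h i j hij
    rw [map_add, show ψ b i j a = 0 from ψ_Na b i j ha, zero_add, ψ, LinearMap.add_apply, Module.Basis.coord_apply,
      Module.Basis.coord_apply, hji, add_zero] at this
    exact hp this
  rw [this, add_zero]
  exact ha

/-- Permutation modules: the sequence splits. -/
theorem exists_split_of_perm (hb : ∀ g : G, ∀ i : ι, ∃ j : ι, ρ g (b i) = b j) :
    ∃ W : Submodule (ZMod 2) (V ⊗[ZMod 2] V),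
      (∀ g : G, ∀ w ∈ W, ρ.tprod ρ g w ∈ W) ∧ W ⊓ Na V = Ns V ∧ W ⊔ Na V = ⊤ := by
  classical
  let O := Submodule.span (ZMod 2) (bb b '' {p | p.1 ≠ p.2})
  have hOφ : ∀ i, O ≤ LinearMap.ker (φ b i) := fun i => by
    rw [Submodule.span_le]
    rintro _ ⟨⟨k, l⟩, hkl, rfl⟩
    show φ b i (bb b (k, l)) = 0
    rw [φ, Module.Basis.coord_apply, Module.Basis.repr_self, Finsupp.single_apply, if_neg]
    intro e
    rw [Prod.mk.injEq] at e
    exact hkl (e.1.trans e.2.symm)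
  have htop : (⊤ : Submodule (ZMod 2) (V ⊗[ZMod 2] V)) ≤ D b ⊔ O := by
    rw [← (bb b).span_eq, Submodule.span_le]
    rintro _ ⟨⟨i, j⟩, rfl⟩
    by_cases hij : i = j
    · exact Submodule.mem_sup_left (Submodule.subset_span ⟨(i, j), hij, rfl⟩)
    · exact Submodule.mem_sup_right (Submodule.subset_span ⟨(i, j), hij, rfl⟩)
  refine ⟨O, fun g => ?_, le_antisymm (fun t ht => (mem_Ns_iff b t).mpr ⟨ht.2, fun i => hOφ i ht.1⟩)
    (le_inf (fun t ht => ?_) Ns_le_Na), eq_top_iff.mpr (htop.trans (sup_le ((D_le_Na b).trans le_sup_right) le_sup_left))⟩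
  · show O ≤ O.comap (ρ.tprod ρ g)
    rw [Submodule.span_le]
    rintro _ ⟨⟨k, l⟩, hkl, rfl⟩
    obtain ⟨k', hk'⟩ := hb g k
    obtain ⟨l', hl'⟩ := hb g l
    refine Submodule.subset_span ⟨(k', l'), fun e => hkl ?_, ?_⟩
    · obtain rfl : k' = l' := e
      exact b.injective ((Module.End.isUnit_iff _).mp ((Group.isUnit g).map ρ) |>.1 (hk'.trans hl'.symm))
    · rw [Module.Basis.tensorProduct_apply, Module.Basis.tensorProduct_apply]
      show b k' ⊗ₜ b l' = TensorProduct.map (ρ g) (ρ g) (b k ⊗ₜ b l)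
      rw [TensorProduct.map_tmul, hk', hl']
  · obtain ⟨d, hd, o, ho, rfl⟩ := Submodule.mem_sup.mp (htop (x := t) trivial)
    have : d = 0 := eq_zero_of_mem_D b hd fun i => by
      have h1 : φ b i (d + o) = 0 := φ_Ns b i ht
      rwa [map_add, show φ b i o = 0 from hOφ i ho, add_zero] at h1
    rw [this, zero_add]
    exact ho

theorem injective_rho (g : G) : Function.Injective (ρ g) :=
  ((Module.End.isUnit_iff _).mp ((Group.isUnit g).map ρ)).1

/-- The quadratic element of a pair of vectors. -/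
noncomputable def quad (x y : V) : V ⊗[ZMod 2] V := x ⊗ₜ x + x ⊗ₜ y + y ⊗ₜ y

theorem φ_quad (i : ι) (x y : V) :
    φ b i (quad x y) = b.repr x i * b.repr x i + b.repr x i * b.repr y i + b.repr y i * b.repr y i := by
  rw [quad, map_add, map_add, φ_tmul, φ_tmul, φ_tmul]

theorem ψ_quad (i j : ι) (x y : V) : ψ b i j (quad x y) = b.repr x i * b.repr y j + b.repr x j * b.repr y i := by
  rw [quad, map_add, map_add, show ψ b i j (x ⊗ₜ x) = 0 from ψ_Na b i j (Submodule.subset_span ⟨x, rfl⟩),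
    show ψ b i j (y ⊗ₜ y) = 0 from ψ_Na b i j (Submodule.subset_span ⟨y, rfl⟩), zero_add, add_zero, ψ_tmul]

theorem map_quad (g : G) (x y : V) : ρ.tprod ρ g (quad x y) = quad (ρ g x) (ρ g y) := by
  show TensorProduct.map (ρ g) (ρ g) (quad x y) = _
  rw [quad, quad, map_add, map_add, TensorProduct.map_tmul, TensorProduct.map_tmul, TensorProduct.map_tmul]

theorem coeff_dim_two : ∀ x y : Fin 2 → ZMod 2, x ≠ 0 → y ≠ 0 → x ≠ y →
    (∀ i, x i * x i + x i * y i + y i * y i = 1) ∧ x 0 * y 1 + x 1 * y 0 = 1 := by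
  decide

theorem exists_split_dim_two (b : Module.Basis (Fin 2) (ZMod 2) V) :
    ∃ W : Submodule (ZMod 2) (V ⊗[ZMod 2] V),
      (∀ g : G, ∀ w ∈ W, ρ.tprod ρ g w ∈ W) ∧ W ⊓ Na V = Ns V ∧ W ⊔ Na V = ⊤ := by
  let q := quad (b 0) (b 1)
  have hne : ∀ f : V →ₗ[ZMod 2] V, Function.Injective f →
      b.repr (f (b 0)) ≠ 0 ∧ b.repr (f (b 1)) ≠ 0 ∧ b.repr (f (b 0)) ≠ b.repr (f (b 1)) := fun f hf => by
    refine ⟨fun e => b.ne_zero 0 (hf ?_), fun e => b.ne_zero 1 (hf ?_), fun e => ?_⟩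
    · exact (b.repr.map_eq_zero_iff.mp e).trans (map_zero f).symm
    · exact (b.repr.map_eq_zero_iff.mp e).trans (map_zero f).symm
    · exact absurd (b.injective (hf (b.repr.injective e))) (by decide)
  have hq : ∀ f : V →ₗ[ZMod 2] V, Function.Injective f →
      (∀ i, φ b i (quad (f (b 0)) (f (b 1))) = 1) ∧ ψ b 0 1 (quad (f (b 0)) (f (b 1))) = 1 := fun f hf => by
    obtain ⟨h1, h2, h3⟩ := hne f hf
    have := coeff_dim_two (b.repr (f (b 0))) (b.repr (f (b 1))) (fun e => h1 (Finsupp.ext (congrFun e)))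
      (fun e => h2 (Finsupp.ext (congrFun e))) (fun e => h3 (Finsupp.ext (congrFun e)))
    exact ⟨fun i => by rw [φ_quad]; exact this.1 i, by rw [ψ_quad]; exact this.2⟩
  have hq1 : (∀ i, φ b i q = 1) ∧ ψ b 0 1 q = 1 := hq LinearMap.id Function.injective_id
  refine ⟨Ns V ⊔ Submodule.span (ZMod 2) {q}, fun g => ?_, le_antisymm (fun t ht => ?_) (le_inf le_sup_left Ns_le_Na), ?_⟩
  · show Ns V ⊔ Submodule.span (ZMod 2) {q} ≤ (Ns V ⊔ Submodule.span (ZMod 2) {q}).comap (ρ.tprod ρ g)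
    refine sup_le (fun w hw => Submodule.mem_sup_left (Ns_stable ρ g w hw)) ?_
    rw [Submodule.span_le, Set.singleton_subset_iff]
    show ρ.tprod ρ g q ∈ Ns V ⊔ Submodule.span (ZMod 2) {q}
    obtain ⟨h1, h2⟩ := hq (ρ g) (injective_rho ρ g)
    have : ρ.tprod ρ g q - q ∈ Ns V := by
      rw [mem_Ns_iff b, mem_Na_iff b, map_quad]
      refine ⟨fun i j hij => ?_, fun i => by rw [map_sub, h1, hq1.1, sub_self]⟩
      obtain ⟨rfl, rfl⟩ : i = 0 ∧ j = 1 := by revert hij; revert i j; decide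
      rw [map_sub, h2, hq1.2, sub_self]
    rw [show ρ.tprod ρ g q = (ρ.tprod ρ g q - q) + q by abel]
    exact add_mem (Submodule.mem_sup_left this) (Submodule.mem_sup_right (Submodule.mem_span_singleton_self q))
  · obtain ⟨n, hn, r, hr, rfl⟩ := Submodule.mem_sup.mp ht.1
    obtain ⟨a, rfl⟩ := Submodule.mem_span_singleton.mp hr
    have h := ψ_Na b 0 1 ht.2
    rw [LinearMap.mem_ker, map_add, show ψ b 0 1 n = 0 from ψ_Na b 0 1 (Ns_le_Na hn), zero_add, map_smul, hq1.2,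
      smul_eq_mul, mul_one] at h
    rw [h, zero_smul, add_zero]
    exact hn
  · refine eq_top_iff.mpr fun t _ => ?_
    have hmem : t - ψ b 0 1 t • q ∈ Na V := by
      rw [mem_Na_iff b]
      intro i j hij
      obtain ⟨rfl, rfl⟩ : i = 0 ∧ j = 1 := by revert hij; revert i j; decide
      rw [map_sub, map_smul, hq1.2, smul_eq_mul, mul_one, sub_self]
    rw [show t = ψ b 0 1 t • q + (t - ψ b 0 1 t • q) by abel]
    exact add_mem (Submodule.mem_sup_left (Submodule.mem_sup_right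
      (Submodule.smul_mem _ _ (Submodule.mem_span_singleton_self q)))) (Submodule.mem_sup_right hmem)

/-- The diagonal forced by a nonzero wedge. -/
def diagOf (a c : ZMod 2) : ZMod 2 := a + c + a * c

theorem coeff_dim_three : ∀ x y : Fin 3 → ZMod 2,
    (x 0 * y 1 + x 1 * y 0, x 0 * y 2 + x 2 * y 0, x 1 * y 2 + x 2 * y 1) ≠ (0, 0, 0) →
    x 0 * x 0 + x 0 * y 0 + y 0 * y 0 = diagOf (x 0 * y 1 + x 1 * y 0) (x 0 * y 2 + x 2 * y 0) ∧
    x 1 * x 1 + x 1 * y 1 + y 1 * y 1 = diagOf (x 0 * y 1 + x 1 * y 0) (x 1 * y 2 + x 2 * y 1) ∧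
    x 2 * x 2 + x 2 * y 2 + y 2 * y 2 = diagOf (x 0 * y 2 + x 2 * y 0) (x 1 * y 2 + x 2 * y 1) := by
  decide

theorem decomposable_dim_three : ∀ a c e : ZMod 2, ∃ x y : Fin 3 → ZMod 2,
    x 0 * y 1 + x 1 * y 0 = a ∧ x 0 * y 2 + x 2 * y 0 = c ∧ x 1 * y 2 + x 2 * y 1 = e := by
  decide

theorem lift_invariant_dim_three (b : Module.Basis (Fin 3) (ZMod 2) V) (t : V ⊗[ZMod 2] V)
    (ht : ∀ g : G, ρ.tprod ρ g t - t ∈ Na V) :
    ∃ t' : V ⊗[ZMod 2] V, t' - t ∈ Na V ∧ ∀ g : G, ρ.tprod ρ g t' - t' ∈ Ns V := by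
  by_cases h0 : t ∈ Na V
  · refine ⟨0, by rw [zero_sub]; exact neg_mem h0, fun g => ?_⟩
    rw [map_zero, sub_zero]
    exact zero_mem _
  obtain ⟨x, y, h1, h2, h3⟩ := decomposable_dim_three (ψ b 0 1 t) (ψ b 0 2 t) (ψ b 1 2 t)
  let X := b.equivFun.symm x
  let Y := b.equivFun.symm y
  have hX : ∀ i, b.repr X i = x i := fun i => congrFun (b.equivFun.apply_symm_apply x) i
  have hY : ∀ i, b.repr Y i = y i := fun i => congrFun (b.equivFun.apply_symm_apply y) i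
  have hpairs : ∀ i j : Fin 3, i < j → (i = 0 ∧ j = 1) ∨ (i = 0 ∧ j = 2) ∨ (i = 1 ∧ j = 2) := by decide
  have hψ : quad X Y - t ∈ Na V := by
    rw [mem_Na_iff b]
    intro i j hij
    rcases hpairs i j hij with ⟨rfl, rfl⟩ | ⟨rfl, rfl⟩ | ⟨rfl, rfl⟩ <;>
      rw [map_sub, ψ_quad, hX, hY, hX, hY]
    · rw [h1, sub_self]
    · rw [h2, sub_self]
    · rw [h3, sub_self]
  refine ⟨quad X Y, hψ, fun g => ?_⟩
  have hNa : ρ.tprod ρ g (quad X Y) - quad X Y ∈ Na V := by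
    have e : ρ.tprod ρ g (quad X Y) - quad X Y =
        ρ.tprod ρ g (quad X Y - t) + (ρ.tprod ρ g t - t) - (quad X Y - t) := by
      rw [map_sub]; abel
    rw [e]
    exact sub_mem (add_mem (Na_stable ρ g _ hψ) (ht g)) hψ
  rw [mem_Ns_iff b]
  refine ⟨hNa, fun i => ?_⟩
  rw [map_quad] at hNa ⊢
  rw [map_sub, φ_quad, φ_quad, sub_eq_zero]
  have eψ : ∀ i j, b.repr (ρ g X) i * b.repr (ρ g Y) j + b.repr (ρ g X) j * b.repr (ρ g Y) i =
      x i * y j + x j * y i := fun i j => by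
    have := ψ_Na b i j hNa
    rw [LinearMap.mem_ker, map_sub, sub_eq_zero, ψ_quad, ψ_quad, hX, hY, hX, hY] at this
    exact this
  have hne : (x 0 * y 1 + x 1 * y 0, x 0 * y 2 + x 2 * y 0, x 1 * y 2 + x 2 * y 1) ≠ (0, 0, 0) := by
    rw [h1, h2, h3]
    intro e
    simp only [Prod.mk.injEq] at e
    apply h0
    rw [mem_Na_iff b]
    intro i j hij
    rcases hpairs i j hij with ⟨rfl, rfl⟩ | ⟨rfl, rfl⟩ | ⟨rfl, rfl⟩
    exacts [e.1, e.2.1, e.2.2]
  have hne' : (b.repr (ρ g X) 0 * b.repr (ρ g Y) 1 + b.repr (ρ g X) 1 * b.repr (ρ g Y) 0,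
      b.repr (ρ g X) 0 * b.repr (ρ g Y) 2 + b.repr (ρ g X) 2 * b.repr (ρ g Y) 0,
      b.repr (ρ g X) 1 * b.repr (ρ g Y) 2 + b.repr (ρ g X) 2 * b.repr (ρ g Y) 1) ≠ (0, 0, 0) := by
    rw [eψ, eψ, eψ]; exact hne
  obtain ⟨A0, A1, A2⟩ := coeff_dim_three x y hne
  obtain ⟨B0, B1, B2⟩ := coeff_dim_three (b.repr (ρ g X)) (b.repr (ρ g Y)) hne'
  have hfin : i = 0 ∨ i = 1 ∨ i = 2 := by revert i; decide
  rcases hfin with rfl | rfl | rfl <;> rw [hX, hY]
  · rw [B0, A0, eψ, eψ]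
  · rw [B1, A1, eψ, eψ]
  · rw [B2, A2, eψ, eψ]

theorem exists_perm_basis_of_card_two (hG : Nat.card G = 2) :
    ∃ (ι : Type v) (b : Module.Basis ι (ZMod 2) V), ∀ g : G, ∀ i : ι, ∃ j : ι, ρ g (b i) = b j := by
  obtain ⟨e, hne, hall⟩ := (Nat.card_eq_two_iff' (1 : G)).mp hG
  have hee : e * e = 1 := by
    by_contra hc
    exact hne (mul_eq_left.mp (hall _ hc))
  let σ : V →ₗ[ZMod 2] V := ρ e
  have hσ : ∀ v, σ (σ v) = v := fun v => by
    show (ρ e * ρ e) v = v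
    rw [← map_mul, hee, map_one]; rfl
  let N : V →ₗ[ZMod 2] V := σ + LinearMap.id
  have h2 : ∀ v : V, v + v = 0 := fun v => by
    rw [← two_smul (ZMod 2) v, show (2 : ZMod 2) = 0 from rfl, zero_smul]
  have hNN : ∀ v, N (N v) = 0 := fun v => by
    show σ (σ v + v) + (σ v + v) = 0
    rw [map_add, hσ, show v + σ v + (σ v + v) = (v + v) + (σ v + σ v) by abel, h2, h2, add_zero]
  have hNσ : ∀ v, N (σ v) = N v := fun v => by
    show σ (σ v) + σ v = σ v + v
    rw [hσ, add_comm]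
  obtain ⟨C, hC⟩ := Submodule.exists_isCompl (LinearMap.ker N)
  obtain ⟨C₂, hC₂⟩ := Submodule.exists_isCompl (LinearMap.range N)
  let C' := C₂ ⊓ LinearMap.ker N
  let f : (C × C) × C' →ₗ[ZMod 2] V :=
    ((C.subtype.coprod (σ ∘ₗ C.subtype)).coprod C'.subtype)
  have hf : ∀ a c k, f ((a, c), k) = a.1 + σ c.1 + k.1 := fun a c k => rfl
  have hinj : Function.Injective f := by
    refine (injective_iff_map_eq_zero f).mpr ?_
    rintro ⟨⟨⟨a, ha⟩, ⟨c, hc⟩⟩, ⟨k, hk₁, hk₂⟩⟩ h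
    replace h : a + σ c + k = 0 := (hf _ _ _).symm.trans h
    have hac : a + c = 0 := by
      refine Submodule.disjoint_def.mp hC.disjoint _ ?_ (add_mem ha hc)
      have := congrArg N h
      rw [map_add, map_add, map_zero, show N k = 0 from hk₂, add_zero, hNσ, ← map_add] at this
      exact this
    obtain rfl : c = a := by
      rw [← add_zero c, ← h2 a, show c + (a + a) = (a + c) + a by abel, hac, zero_add]
    have hk0 : k = 0 := by
      refine Submodule.disjoint_def.mp hC₂.disjoint k ⟨c, ?_⟩ hk₁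
      show σ c + c = k
      rw [← add_zero (σ c + c), ← h2 k, show σ c + c + (k + k) = (c + σ c + k) + k by abel, h, zero_add]
    have hc0 : c = 0 := by
      refine Submodule.disjoint_def.mp hC.disjoint c ?_ hc
      show σ c + c = 0
      rw [hk0, add_zero] at h
      rw [add_comm]; exact h
    subst hk0 hc0
    rfl
  have hsurj : Function.Surjective f := fun v => by
    obtain ⟨w, hw, a, ha, rfl⟩ := Submodule.mem_sup.mp (hC.sup_eq_top ▸ Submodule.mem_top : v ∈ LinearMap.ker N ⊔ C)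
    obtain ⟨r, hr, k, hk, rfl⟩ :=
      Submodule.mem_sup.mp (hC₂.sup_eq_top ▸ Submodule.mem_top : w ∈ LinearMap.range N ⊔ C₂)
    obtain ⟨z, rfl⟩ := hr
    obtain ⟨z₀, hz₀, a', ha', rfl⟩ := Submodule.mem_sup.mp (hC.sup_eq_top ▸ Submodule.mem_top : z ∈ LinearMap.ker N ⊔ C)
    have hkN : k ∈ LinearMap.ker N := by
      rw [LinearMap.mem_ker] at hw ⊢
      rwa [map_add, hNN, zero_add] at hw
    refine ⟨((⟨a + a', add_mem ha ha'⟩, ⟨a', ha'⟩), ⟨k, hk, hkN⟩), ?_⟩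
    rw [hf, map_add, show N z₀ = 0 from hz₀, zero_add]
    show a + a' + σ a' + k = σ a' + a' + k + a
    abel
  let bC := Module.Free.chooseBasis (ZMod 2) C
  let bC' := Module.Free.chooseBasis (ZMod 2) C'
  let bV := ((bC.prod bC).prod bC').map (LinearEquiv.ofBijective f ⟨hinj, hsurj⟩)
  refine ⟨_, bV, fun g i => ?_⟩
  by_cases hg : g = 1
  · subst hg; exact ⟨i, by rw [map_one]; rfl⟩
  obtain rfl := hall g hg
  have hl : ∀ i, bV (Sum.inl (Sum.inl i)) = (bC i).1 := fun i => by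
    simp [bV, f, Module.Basis.prod_apply]
  have hr : ∀ i, bV (Sum.inl (Sum.inr i)) = σ (bC i).1 := fun i => by
    simp [bV, f, Module.Basis.prod_apply]
  have hk : ∀ i, bV (Sum.inr i) = (bC' i).1 := fun i => by
    simp [bV, f, Module.Basis.prod_apply]
  rcases i with (i | i) | i
  · exact ⟨Sum.inl (Sum.inr i), by rw [hl, hr]⟩
  · exact ⟨Sum.inl (Sum.inl i), by rw [hl, hr]; exact hσ _⟩
  · refine ⟨Sum.inr i, ?_⟩
    rw [hk]
    have : σ (bC' i).1 + (bC' i).1 = 0 := (bC' i).2.2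
    show σ (bC' i).1 = (bC' i).1
    rw [← add_zero (σ (bC' i).1), ← h2 (bC' i).1, ← add_assoc, this, zero_add]

end Groth.Agent.GalCoh.SqWedge
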